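import Mathlib

set_option autoImplicit false
universe u
open CategoryTheory AlgebraicGeometry

namespace Groth.Agent.Lib.Helper6.AdicHom

variable (A : Type u) [CommRing A] [IsLocalRing A]


/-- the closed immersion `Spec (A/(IsLocalRing.maximalIdeal A)ⁿ) ⟶ Spec A`. -/
noncomputable abbrev q (n : ℕ) : Spec (CommRingCat.of (A ⧸ (IsLocalRing.maximalIdeal A) ^ n)) ⟶ Spec (CommRingCat.of A) :=
  Spec.map (CommRingCat.ofHom (Ideal.Quotient.mk ((IsLocalRing.maximalIdeal A) ^ n)))

/-- the transition map `Spec (A/(IsLocalRing.maximalIdeal A)ⁿ) ⟶ Spec (A/(IsLocalRing.maximalIdeal A)ⁿ⁺¹)`. -/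
noncomputable abbrev t (n : ℕ) :
    Spec (CommRingCat.of (A ⧸ (IsLocalRing.maximalIdeal A) ^ n)) ⟶ Spec (CommRingCat.of (A ⧸ (IsLocalRing.maximalIdeal A) ^ (n + 1))) :=
  Spec.map (CommRingCat.ofHom (Ideal.Quotient.factor
    (Ideal.pow_le_pow_right (I := (IsLocalRing.maximalIdeal A)) (Nat.le_succ n))))

lemma q_apply (n : ℕ) (p : Spec (CommRingCat.of (A ⧸ (IsLocalRing.maximalIdeal A) ^ n))) :
    (q A n) p = IsLocalRing.closedPoint A := by
  apply PrimeSpectrum.ext
  have hle : (IsLocalRing.maximalIdeal A) ≤ ((q A n) p).asIdeal := by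
    intro x hx
    have h1 : x ^ n ∈ ((q A n) p).asIdeal := by
      show x ^ n ∈ Ideal.comap (Ideal.Quotient.mk ((IsLocalRing.maximalIdeal A) ^ n)) p.asIdeal
      rw [Ideal.mem_comap]
      have : (Ideal.Quotient.mk ((IsLocalRing.maximalIdeal A) ^ n)) (x ^ n) = 0 :=
        Ideal.Quotient.eq_zero_iff_mem.mpr (Ideal.pow_mem_pow hx n)
      rw [this]
      exact Ideal.zero_mem _
    exact ((q A n) p).isPrime.mem_of_pow_mem n h1
  exact ((IsLocalRing.maximalIdeal.isMaximal A).eq_of_le ((q A n) p).isPrime.ne_top hle).symm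

lemma q_injective (n : ℕ) : Function.Injective (q A n) := by
  intro p p' h
  exact PrimeSpectrum.comap_injective_of_surjective _ Ideal.Quotient.mk_surjective h

instance subsingleton_spec_quot (n : ℕ) :
    Subsingleton (Spec (CommRingCat.of (A ⧸ (IsLocalRing.maximalIdeal A) ^ n))) :=
  ⟨fun p p' => q_injective A n ((q_apply A n p).trans (q_apply A n p').symm)⟩

lemma nonempty_spec_quot (n : ℕ) :
    Nonempty (Spec (CommRingCat.of (A ⧸ (IsLocalRing.maximalIdeal A) ^ (n + 1)))) := by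
  have hne : (IsLocalRing.maximalIdeal A) ^ (n + 1) ≠ ⊤ := by
    intro h
    have : (IsLocalRing.maximalIdeal A) ^ (n + 1) ≤ (IsLocalRing.maximalIdeal A) := Ideal.pow_le_self (Nat.succ_ne_zero n)
    rw [h] at this
    exact (IsLocalRing.maximalIdeal.isMaximal A).ne_top (top_le_iff.mp this)
  have : Nontrivial (A ⧸ (IsLocalRing.maximalIdeal A) ^ (n + 1)) := Ideal.Quotient.nontrivial_iff.mpr hne
  exact (inferInstance : Nonempty (PrimeSpectrum (A ⧸ (IsLocalRing.maximalIdeal A) ^ (n + 1))))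

lemma t_q (n : ℕ) : t A n ≫ q A (n + 1) = q A n := by
  rw [← Spec.map_comp]
  congr 1

variable [IsAdicComplete (IsLocalRing.maximalIdeal A) A]

/-- ring-level uniqueness -/
lemma ringHom_ext {B : Type u} [CommRing B] (φ ψ : B →+* A)
    (h : ∀ n, (Ideal.Quotient.mk ((IsLocalRing.maximalIdeal A) ^ n)).comp φ = (Ideal.Quotient.mk ((IsLocalRing.maximalIdeal A) ^ n)).comp ψ) :
    φ = ψ := by
  ext b
  have hH : IsHausdorff (IsLocalRing.maximalIdeal A) A := inferInstance
  rw [← sub_eq_zero]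
  apply hH.haus'
  intro n
  have := congrArg (fun f => f b) (h n)
  simp only [RingHom.comp_apply] at this
  rw [SModEq.zero, smul_eq_mul, Ideal.mul_top]
  exact Ideal.Quotient.eq.mp this

/-- affine case, uniqueness -/
lemma hom_ext_spec (B : CommRingCat.{u}) (f g : Spec (CommRingCat.of A) ⟶ Spec B)
    (h : ∀ n, q A n ≫ f = q A n ≫ g) : f = g := by
  rw [← Spec.map_preimage f, ← Spec.map_preimage g]
  congr 1
  apply CommRingCat.hom_ext
  apply ringHom_ext A
  intro n
  have hn := h n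
  rw [← Spec.map_preimage f, ← Spec.map_preimage g, ← Spec.map_comp, ← Spec.map_comp,
    Spec.map_inj] at hn
  exact congrArg CommRingCat.Hom.hom hn

/-- affine case, existence -/
lemma exists_hom_spec (B : CommRingCat.{u})
    (u : (n : ℕ) → (Spec (CommRingCat.of (A ⧸ (IsLocalRing.maximalIdeal A) ^ n)) ⟶ Spec B))
    (hu : ∀ n, t A n ≫ u (n + 1) = u n) :
    ∃ f : Spec (CommRingCat.of A) ⟶ Spec B, ∀ n, q A n ≫ f = u n := by
  let φ : (n : ℕ) → (B →+* A ⧸ (IsLocalRing.maximalIdeal A) ^ (id n)) := fun n => (Spec.preimage (u n)).hom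
  have hφ : ∀ {m : ℕ}, (Ideal.Quotient.factorPow (IsLocalRing.maximalIdeal A) (strictMono_id.monotone m.le_succ)).comp
      (φ (m + 1)) = φ m := by
    intro m
    have hm := hu m
    rw [← Spec.map_preimage (u (m + 1)), ← Spec.map_preimage (u m), ← Spec.map_comp,
      Spec.map_inj] at hm
    exact congrArg CommRingCat.Hom.hom hm
  let Φ : B →+* A := IsAdicComplete.StrictMono.liftRingHom (IsLocalRing.maximalIdeal A) strictMono_id φ hφ
  refine ⟨Spec.map (CommRingCat.ofHom Φ), fun n => ?_⟩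
  rw [← Spec.map_comp, ← Spec.map_preimage (u n)]
  congr 1
  apply CommRingCat.hom_ext
  exact IsAdicComplete.StrictMono.mk_comp_liftRingHom (IsLocalRing.maximalIdeal A) strictMono_id φ hφ (n := n)

/-- affine scheme case, uniqueness -/
lemma hom_ext_affine (Y : Scheme.{u}) [IsAffine Y] (f g : Spec (CommRingCat.of A) ⟶ Y)
    (h : ∀ n, q A n ≫ f = q A n ≫ g) : f = g := by
  rw [← cancel_mono Y.isoSpec.hom]
  apply hom_ext_spec A
  intro n
  rw [← Category.assoc, ← Category.assoc, h n]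

/-- affine scheme case, existence -/
lemma exists_hom_affine (Y : Scheme.{u}) [IsAffine Y]
    (u : (n : ℕ) → (Spec (CommRingCat.of (A ⧸ (IsLocalRing.maximalIdeal A) ^ n)) ⟶ Y))
    (hu : ∀ n, t A n ≫ u (n + 1) = u n) :
    ∃ f : Spec (CommRingCat.of A) ⟶ Y, ∀ n, q A n ≫ f = u n := by
  obtain ⟨f, hf⟩ := exists_hom_spec A _ (fun n => u n ≫ Y.isoSpec.hom)
    (fun n => by rw [← Category.assoc, hu n])
  refine ⟨f ≫ Y.isoSpec.inv, fun n => ?_⟩
  rw [← Category.assoc, hf n, Category.assoc, Iso.hom_inv_id, Category.comp_id]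

/-- general case, uniqueness -/
theorem hom_ext (X : Scheme.{u}) (f g : Spec (CommRingCat.of A) ⟶ X)
    (h : ∀ n, q A n ≫ f = q A n ≫ g) : f = g := by
  obtain ⟨_, ⟨(U : X.Opens), hU, rfl⟩, hxU, -⟩ := X.isBasis_affineOpens.exists_subset_of_mem_open
    (Set.mem_univ (f (IsLocalRing.closedPoint A))) isOpen_univ
  obtain ⟨p₁⟩ := nonempty_spec_quot A 0
  have hgU : g (IsLocalRing.closedPoint A) ∈ U := by
    have h1 : g ((q A 1) p₁) = f ((q A 1) p₁) := by
      have := congrArg (fun φ : _ ⟶ X => φ p₁) (h 1)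
      simpa using this.symm
    rw [q_apply] at h1
    rw [h1]; exact hxU
  have hf : Set.range f ⊆ Set.range U.ι := by
    rintro _ ⟨y, rfl⟩
    rw [Scheme.Opens.range_ι]
    have := Scheme.preimage_eq_top_of_closedPoint_mem f hxU
    have hy : y ∈ f ⁻¹ᵁ U := by rw [this]; trivial
    exact hy
  have hg : Set.range g ⊆ Set.range U.ι := by
    rintro _ ⟨y, rfl⟩
    rw [Scheme.Opens.range_ι]
    have := Scheme.preimage_eq_top_of_closedPoint_mem g hgU
    have hy : y ∈ g ⁻¹ᵁ U := by rw [this]; trivial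
    exact hy
  have : IsAffine U.toScheme := hU
  rw [← IsOpenImmersion.lift_fac U.ι f hf, ← IsOpenImmersion.lift_fac U.ι g hg]
  congr 1
  apply hom_ext_affine A
  intro n
  rw [← cancel_mono U.ι, Category.assoc, Category.assoc, IsOpenImmersion.lift_fac,
    IsOpenImmersion.lift_fac, h n]

/-- general case, existence -/
theorem exists_hom (X : Scheme.{u})
    (u : (n : ℕ) → (Spec (CommRingCat.of (A ⧸ (IsLocalRing.maximalIdeal A) ^ n)) ⟶ X))
    (hu : ∀ n, t A n ≫ u (n + 1) = u n) :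
    ∃ f : Spec (CommRingCat.of A) ⟶ X, ∀ n, q A n ≫ f = u n := by
  obtain ⟨p₁⟩ := nonempty_spec_quot A 0
  obtain ⟨_, ⟨(U : X.Opens), hU, rfl⟩, hxU, -⟩ := X.isBasis_affineOpens.exists_subset_of_mem_open
    (Set.mem_univ ((u 1) p₁)) isOpen_univ
  have hmem : ∀ n (p : Spec (CommRingCat.of (A ⧸ (IsLocalRing.maximalIdeal A) ^ n))), (u n) p ∈ U := by
    intro n
    induction n with
    | zero =>
      intro p
      exfalso
      have : Subsingleton (A ⧸ (IsLocalRing.maximalIdeal A) ^ 0) := by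
        rw [pow_zero, Ideal.one_eq_top]
        exact Ideal.Quotient.subsingleton_iff.mpr rfl
      exact (PrimeSpectrum.instIsEmptyOfSubsingleton : IsEmpty (PrimeSpectrum (A ⧸ (IsLocalRing.maximalIdeal A) ^ 0))).false p
    | succ n ih =>
      intro p
      rcases Nat.eq_zero_or_pos n with rfl | hn
      · have : p = p₁ := Subsingleton.elim _ _
        rw [this]; exact hxU
      · obtain ⟨m, rfl⟩ : ∃ m, n = m + 1 := ⟨n - 1, by omega⟩
        obtain ⟨p'⟩ := nonempty_spec_quot A m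
        have hp : p = (t A (m + 1)) p' := Subsingleton.elim _ _
        have h2 : (u (m + 1 + 1)) ((t A (m + 1)) p') = (u (m + 1)) p' := by
          have := congrArg (fun φ : _ ⟶ X => φ p') (hu (m + 1))
          simpa using this
        rw [hp, h2]
        exact ih p'
  have hr : ∀ n, Set.range (u n) ⊆ Set.range U.ι := by
    intro n
    rintro _ ⟨y, rfl⟩
    rw [Scheme.Opens.range_ι]
    exact hmem n y
  have : IsAffine U.toScheme := hU
  obtain ⟨f, hf⟩ := exists_hom_affine A U.toScheme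
    (fun n => IsOpenImmersion.lift U.ι (u n) (hr n)) (fun n => by
      rw [← cancel_mono U.ι, Category.assoc, IsOpenImmersion.lift_fac,
        IsOpenImmersion.lift_fac, hu n])
  refine ⟨f ≫ U.ι, fun n => ?_⟩
  rw [← Category.assoc, hf n, IsOpenImmersion.lift_fac]

end Groth.Agent.Lib.Helper6.AdicHom
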